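import Mathlib.LinearAlgebra.ExteriorPower.Basis
import Mathlib.RingTheory.LocalRing.Module
import Mathlib.RingTheory.Ideal.GoingUp
import Mathlib.RingTheory.QuasiFinite.Basic
import Mathlib.LinearAlgebra.Dimension.FreeAndStrongRankCondition
import Mathlib.RingTheory.Localization.AtPrime.Basic
import Mathlib.RingTheory.Flat.Stability

/-!
# Elementwise local frames of projective modules of constant rank

For a finite projective module of constant rank `k` and a prime `q`: `k` elements which span the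
module up to scalars outside `q`.  Consequences for top exterior powers and invertible modules.
-/

universe u

open TensorProduct

namespace Groth.Agent.DetInv.Frame

variable {A : Type u} [CommRing A]

/-- A submodule containing, prime by prime, a multiple of `w` by an outside scalar contains `w`. -/
theorem mem_of_forall_exists_smul_mem {M : Type u} [AddCommGroup M] [Module A M] (N : Submodule A M)
    (w : M) (h : ∀ q : PrimeSpectrum A, ∃ r ∉ q.asIdeal, r • w ∈ N) : w ∈ N := by
  let I : Ideal A := N.comap (LinearMap.toSpanSingleton A M w)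
  suffices hI : I = ⊤ by
    have h1 : (1 : A) ∈ I := hI ▸ Submodule.mem_top
    simpa [I] using h1
  by_contra hI
  obtain ⟨m, hm, hle⟩ := Ideal.exists_le_maximal I hI
  obtain ⟨r, hr, hrw⟩ := h ⟨m, hm.isPrime⟩
  exact hr (hle (by simpa [I] using hrw))

/-- An element killed, prime by prime, by an outside scalar is zero. -/
theorem eq_zero_of_forall_exists_smul_eq_zero {M : Type u} [AddCommGroup M] [Module A M] (w : M)
    (h : ∀ q : PrimeSpectrum A, ∃ r ∉ q.asIdeal, r • w = 0) : w = 0 :=
  (Submodule.mem_bot A).1 (mem_of_forall_exists_smul_mem ⊥ w fun q => by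
    obtain ⟨r, hr, hrw⟩ := h q
    exact ⟨r, hr, (Submodule.mem_bot A).2 hrw⟩)

/-- A finite projective module of constant rank `k` has `k` generators up to outside scalars. -/
theorem exists_frame {M : Type u} [AddCommGroup M] [Module A M] [Module.Finite A M]
    [Module.Projective A M] (k : ℕ) (q : PrimeSpectrum A)
    (hk : Module.finrank (Localization.AtPrime q.asIdeal) (LocalizedModule q.asIdeal.primeCompl M) = k) :
    ∃ φ : (Fin k → A) →ₗ[A] M, ∀ x : M, ∃ r ∉ q.asIdeal, r • x ∈ LinearMap.range φ := by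
  classical
  let S := q.asIdeal.primeCompl
  let Aq := Localization.AtPrime q.asIdeal
  have : Module.Finite Aq (LocalizedModule S M) :=
    Module.Finite.of_isLocalizedModule S (LocalizedModule.mkLinearMap S M)
  have : Module.Free Aq (LocalizedModule S M) := Module.free_of_flat_of_isLocalRing
  let b := (Module.Free.chooseBasis Aq (LocalizedModule S M)).reindex
    (Fintype.equivFinOfCardEq (by rw [← Module.finrank_eq_card_chooseBasisIndex, hk]))
  choose num den hb using fun j => LocalizedModule.induction_on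
    (β := fun y => ∃ (m : M) (s : S), LocalizedModule.mk m s = y) (fun m s => ⟨m, s, rfl⟩) (b j)
  let φ := Fintype.linearCombination A num
  refine ⟨φ, fun x => ?_⟩
  let ι' := LocalizedModule.mkLinearMap S M
  have hP : ∀ y : LocalizedModule S M, ∃ r ∉ q.asIdeal, ∃ w, r • y = ι' (φ w) := by
    intro y
    have hy : y ∈ Submodule.span Aq (Set.range b) := b.span_eq ▸ Submodule.mem_top
    induction hy using Submodule.span_induction with
    | mem y hy =>
      obtain ⟨j, rfl⟩ := hy
      refine ⟨den j, (den j).2, Pi.single j 1, ?_⟩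
      rw [← hb j, LocalizedModule.smul'_mk]
      simp only [φ, ι', Fintype.linearCombination_apply_single, one_smul,
        LocalizedModule.mkLinearMap_apply]
      exact LocalizedModule.mk_cancel (den j) (num j)
    | zero => exact ⟨1, q.asIdeal.one_notMem, 0, by simp⟩
    | add y z _ _ hy hz =>
      obtain ⟨r, hr, w, hw⟩ := hy
      obtain ⟨s, hs, v, hv⟩ := hz
      refine ⟨r * s, q.2.mul_notMem hr hs, s • w + r • v, ?_⟩
      simp only [map_add, map_smul, ← hw, ← hv, smul_add, smul_smul, mul_comm r s]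
    | smul c y _ hy =>
      obtain ⟨r, hr, w, hw⟩ := hy
      obtain ⟨a, t, rfl⟩ := IsLocalization.exists_mk'_eq S c
      refine ⟨t * r, q.2.mul_notMem t.2 hr, a • w, ?_⟩
      rw [map_smul, map_smul, ← hw, ← algebraMap_smul Aq ((t : A) * r), smul_smul,
        ← algebraMap_smul Aq a, ← algebraMap_smul Aq r, smul_smul, map_mul,
        mul_right_comm, mul_comm (algebraMap A Aq t), IsLocalization.mk'_spec]
  obtain ⟨r, hr, w, hw⟩ := hP (ι' x)
  rw [← map_smul] at hw
  obtain ⟨s, hs⟩ := (IsLocalizedModule.eq_iff_exists S ι').1 hw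
  refine ⟨s * r, q.2.mul_notMem s.2 hr, (s : A) • w, ?_⟩
  rw [map_smul, mul_smul]
  exact hs.symm

/-- Locally cyclic modules. -/
def LocCyclic (A : Type u) [CommRing A] (L : Type u) [AddCommGroup L] [Module A L] : Prop :=
  ∀ q : PrimeSpectrum A, ∃ e : L, ∀ x : L, ∃ r ∉ q.asIdeal, r • x ∈ Submodule.span A {e}

theorem locCyclic_of_finrank_eq_one {M : Type u} [AddCommGroup M] [Module A M] [Module.Finite A M]
    [Module.Projective A M]
    (h : ∀ q : PrimeSpectrum A, Module.finrank (Localization.AtPrime q.asIdeal)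
      (LocalizedModule q.asIdeal.primeCompl M) = 1) : LocCyclic A M := by
  intro q
  obtain ⟨φ, hφ⟩ := exists_frame 1 q (h q)
  refine ⟨φ (Pi.single 0 1), fun x => ?_⟩
  obtain ⟨r, hr, w, hw⟩ := hφ x
  refine ⟨r, hr, Submodule.mem_span_singleton.2 ⟨w 0, ?_⟩⟩
  rw [← map_smul, ← hw]
  congr 1
  ext i
  fin_cases i
  simp

/-- The top exterior power of a module of constant rank `k` is locally cyclic. -/
theorem locCyclic_exteriorPower {M : Type u} [AddCommGroup M] [Module A M] [Module.Finite A M]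
    [Module.Projective A M] (k : ℕ)
    (h : ∀ q : PrimeSpectrum A, Module.finrank (Localization.AtPrime q.asIdeal)
      (LocalizedModule q.asIdeal.primeCompl M) = k) : LocCyclic A (⋀[A]^k M) := by
  intro q
  have : Nontrivial A := ⟨⟨0, 1, fun h01 => q.2.one_notMem (h01 ▸ q.asIdeal.zero_mem)⟩⟩
  obtain ⟨φ, hφ⟩ := exists_frame k q (h q)
  obtain ⟨z, -, hz⟩ := (finrank_eq_one_iff' (K := A) (V := ⋀[A]^k (Fin k → A))).1
    (by rw [exteriorPower.finrank_eq, Module.finrank_fin_fun, Nat.choose_self])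
  refine ⟨exteriorPower.map k φ z, fun x => ?_⟩
  have hx : x ∈ Submodule.span A (Set.range (exteriorPower.ιMulti A k (M := M))) := by
    rw [exteriorPower.ιMulti_span]; trivial
  induction hx using Submodule.span_induction with
  | mem y hy =>
    obtain ⟨v, rfl⟩ := hy
    choose r hr hv using fun i => hφ (v i)
    choose w hw using hv
    obtain ⟨c, hc⟩ := hz (exteriorPower.ιMulti A k w)
    refine ⟨∏ i, r i, fun hm => ?_, Submodule.mem_span_singleton.2 ⟨c, ?_⟩⟩
    · obtain ⟨i, -, hi⟩ := q.2.prod_mem_iff.1 hm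
      exact hr i hi
    · rw [← map_smul, hc, exteriorPower.map_apply_ιMulti, ← AlternatingMap.map_smul_univ]
      congr 1
      funext i
      exact hw i
  | zero => exact ⟨1, q.asIdeal.one_notMem, by simp⟩
  | add y z _ _ hy hz =>
    obtain ⟨r, hr, hry⟩ := hy
    obtain ⟨s, hs, hsz⟩ := hz
    refine ⟨r * s, q.2.mul_notMem hr hs, ?_⟩
    rw [smul_add]
    refine add_mem ?_ ?_
    · rw [mul_comm, mul_smul]; exact Submodule.smul_mem _ s hry
    · rw [mul_smul]; exact Submodule.smul_mem _ r hsz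
  | smul c y _ hy =>
    obtain ⟨r, hr, hry⟩ := hy
    exact ⟨r, hr, by rw [smul_comm]; exact Submodule.smul_mem _ c hry⟩

/-- Endomorphisms of a locally cyclic module move across the tensor sign. -/
theorem tmul_endo_comm {L : Type u} [AddCommGroup L] [Module A L] (hL : LocCyclic A L)
    (f : L →ₗ[A] L) (x y : L) : f x ⊗ₜ[A] y = x ⊗ₜ[A] f y := by
  rw [← sub_eq_zero]
  refine eq_zero_of_forall_exists_smul_eq_zero (A := A) _ fun q => ?_
  obtain ⟨e, he⟩ := hL q
  obtain ⟨r, hr, hrx⟩ := he x
  obtain ⟨s, hs, hsy⟩ := he y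
  obtain ⟨t, ht, hte⟩ := he (f e)
  obtain ⟨a, ha⟩ := Submodule.mem_span_singleton.1 hrx
  obtain ⟨b, hb⟩ := Submodule.mem_span_singleton.1 hsy
  obtain ⟨c, hc⟩ := Submodule.mem_span_singleton.1 hte
  refine ⟨t * (r * s), q.2.mul_notMem ht (q.2.mul_notMem hr hs), ?_⟩
  have h1 : (r * s) • (f x ⊗ₜ[A] y) = (a * b) • (f e ⊗ₜ[A] e) := by
    rw [← TensorProduct.smul_tmul_smul, ← map_smul, ← ha, ← hb, map_smul, TensorProduct.smul_tmul_smul]
  have h2 : (r * s) • (x ⊗ₜ[A] f y) = (a * b) • (e ⊗ₜ[A] f e) := by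
    rw [← TensorProduct.smul_tmul_smul, ← map_smul, ← ha, ← hb, map_smul, TensorProduct.smul_tmul_smul]
  have h3 : t • (f e ⊗ₜ[A] e) = t • (e ⊗ₜ[A] f e) := by
    rw [TensorProduct.smul_tmul', ← TensorProduct.tmul_smul, ← hc, TensorProduct.smul_tmul]
  rw [smul_sub, mul_smul t (r * s), mul_smul t (r * s), h1, h2, smul_comm t, smul_comm t, h3, sub_self]

section Algebra

variable {B : Type u} [CommRing B] [Algebra A B]

/-- In an invertible module `ψ x • g = ψ g • x`. -/
theorem smul_apply_comm {M : Type u} [AddCommGroup M] [Module B M] (hM : LocCyclic B M)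
    (ψ : M →ₗ[B] B) (x g : M) : ψ x • g = ψ g • x := by
  rw [← sub_eq_zero]
  refine eq_zero_of_forall_exists_smul_eq_zero (A := B) _ fun q => ?_
  obtain ⟨e, he⟩ := hM q
  obtain ⟨r, hr, hrx⟩ := he x
  obtain ⟨s, hs, hsg⟩ := he g
  obtain ⟨a, ha⟩ := Submodule.mem_span_singleton.1 hrx
  obtain ⟨b, hb⟩ := Submodule.mem_span_singleton.1 hsg
  refine ⟨r * s, q.2.mul_notMem hr hs, ?_⟩
  have h1 : (r * s) • ψ x • g = ψ (r • x) • (s • g) := by
    rw [map_smul, smul_eq_mul, smul_smul, smul_smul]; congr 1; ring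
  have h2 : (r * s) • ψ g • x = ψ (s • g) • (r • x) := by
    rw [map_smul, smul_eq_mul, smul_smul, smul_smul]; congr 1; ring
  rw [smul_sub, h1, h2, ← ha, ← hb, map_smul, map_smul, smul_eq_mul, smul_eq_mul, smul_smul,
    smul_smul, sub_eq_zero]
  congr 1; ring

/-- An invertible `B`-module has, over each prime of `A` with `B` finite over `A`, a section and a
functional whose pairing divides a scalar outside the prime. -/
theorem exists_section [Module.Finite A B] {M : Type u} [AddCommGroup M] [Module B M]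
    [Module.Finite B M] [Module.Projective B M]
    (h : ∀ Q : PrimeSpectrum B, Module.finrank (Localization.AtPrime Q.asIdeal)
      (LocalizedModule Q.asIdeal.primeCompl M) = 1) (q : PrimeSpectrum A) :
    ∃ (g : M) (ψ : M →ₗ[B] B) (r : A), r ∉ q.asIdeal ∧ ψ g = algebraMap A B r ∧
      ∀ x : M, ψ x • g = algebraMap A B r • x := by
  classical
  have hM := locCyclic_of_finrank_eq_one h
  have hpair : ∀ Q : PrimeSpectrum B, ∃ (m : M) (ψ : M →ₗ[B] B), ψ m ∉ Q.asIdeal := by
    intro Q
    by_contra hcon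
    push Not at hcon
    have hsub : Subsingleton (LocalizedModule Q.asIdeal.primeCompl M) := by
      rw [LocalizedModule.subsingleton_iff]
      intro m
      obtain ⟨σ, hσ⟩ := Module.projective_def.1 (inferInstance : Module.Projective B M)
      have hmem : m ∈ Q.asIdeal • (⊤ : Submodule B M) := by
        rw [← hσ m, Finsupp.linearCombination_apply]
        refine Submodule.sum_mem _ fun i _ => Submodule.smul_mem_smul ?_ trivial
        exact hcon m ((Finsupp.lapply i).comp σ)
      obtain ⟨e, he⟩ := hM Q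
      obtain ⟨t, ht, hte⟩ := he m
      obtain ⟨c, hc⟩ := Submodule.mem_span_singleton.1 hte
      have hQe : ∀ y ∈ Q.asIdeal • (⊤ : Submodule B M),
          ∃ s ∉ Q.asIdeal, ∃ a ∈ Q.asIdeal, s • y = a • e := by
        intro y hy
        refine Submodule.smul_induction_on hy (fun a ha z _ => ?_) (fun y z hy hz => ?_)
        · obtain ⟨s, hs, hse⟩ := he z
          obtain ⟨d, hd⟩ := Submodule.mem_span_singleton.1 hse
          exact ⟨s, hs, a * d, Q.asIdeal.mul_mem_right d ha, by rw [smul_comm, ← hd, smul_smul]⟩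
        · obtain ⟨s, hs, a, ha, hsa⟩ := hy
          obtain ⟨s', hs', a', ha', hsa'⟩ := hz
          refine ⟨s * s', Q.2.mul_notMem hs hs', s' * a + s * a',
            add_mem (Q.asIdeal.mul_mem_left _ ha) (Q.asIdeal.mul_mem_left _ ha'), ?_⟩
          have e1 : (s * s') • y = (s' * a) • e := by rw [mul_comm, mul_smul, hsa, smul_smul]
          have e2 : (s * s') • z = (s * a') • e := by rw [mul_smul, hsa', smul_smul]
          rw [smul_add, e1, e2, add_smul]
      have hmem' : e ∈ Q.asIdeal • (⊤ : Submodule B M) := by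
        rw [← hσ e, Finsupp.linearCombination_apply]
        refine Submodule.sum_mem _ fun i _ => Submodule.smul_mem_smul ?_ trivial
        exact hcon e ((Finsupp.lapply i).comp σ)
      obtain ⟨s, hs, a, ha, hsa⟩ := hQe e hmem'
      have hne : s - a ∉ Q.asIdeal := fun hh => hs (by simpa using add_mem hh ha)
      refine ⟨(s - a) * t, Q.2.mul_notMem hne ht, ?_⟩
      rw [mul_smul, ← hc, smul_comm, sub_smul, hsa, sub_self, smul_zero]
    exact one_ne_zero ((h Q).symm.trans Module.finrank_zero_of_subsingleton)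
  have hfin : (q.asIdeal.primesOver B).Finite := Algebra.QuasiFinite.finite_primesOver q.asIdeal
  have : Fintype (q.asIdeal.primesOver B) := hfin.fintype
  choose m ψ hmψ using fun Q : q.asIdeal.primesOver B => hpair ⟨Q.1, Q.2.1⟩
  have hsep : ∀ Q Q' : q.asIdeal.primesOver B, Q' ≠ Q → ∃ e ∈ Q'.1, e ∉ Q.1 := by
    intro Q Q' hne
    have : Q.1.IsPrime := Q.2.1
    have : Q'.1.IsPrime := Q'.2.1
    refine Set.not_subset.1 fun hle => ?_
    rcases (le_iff_lt_or_eq.1 (show Q'.1 ≤ Q.1 from hle)) with hlt | heq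
    · have := Ideal.IsIntegral.comap_lt_comap (R := A) hlt
      rw [← Ideal.under_def, ← Ideal.under_def, ← Q.2.2.over, ← Q'.2.2.over] at this
      exact lt_irrefl _ this
    · exact hne (Subtype.ext heq)
  choose sep hsep1 hsep2 using hsep
  let e : q.asIdeal.primesOver B → B := fun Q =>
    ∏ Q' : q.asIdeal.primesOver B, if hne : Q' ≠ Q then sep Q Q' hne else 1
  have he1 : ∀ Q, e Q ∉ Q.1 := fun Q hm => by
    obtain ⟨Q', -, hQ'⟩ := Q.2.1.prod_mem_iff.1 hm
    split_ifs at hQ' with hne
    · exact hsep2 Q Q' hne hQ'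
    · exact Q.2.1.one_notMem hQ'
  have he2 : ∀ Q Q', Q' ≠ Q → e Q ∈ Q'.1 := fun Q Q' hne =>
    Ideal.mem_of_dvd _ (Finset.dvd_prod_of_mem _ (Finset.mem_univ Q'))
      (by rw [dif_pos hne]; exact hsep1 Q Q' hne)
  let g₀ := ∑ Q, e Q • m Q
  let ψ₀ := ∑ Q, e Q • ψ Q
  have hg : ∀ Q : q.asIdeal.primesOver B, ψ₀ g₀ ∉ Q.1 := by
    intro Q hm
    have h1 : ψ₀ g₀ - e Q * (e Q * ψ Q (m Q)) ∈ Q.1 := by
      simp only [ψ₀, g₀, LinearMap.sum_apply, LinearMap.smul_apply, map_sum, map_smul, smul_eq_mul,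
        Finset.mul_sum]
      rw [← Finset.sum_erase_add _ _ (Finset.mem_univ Q), ← Finset.sum_erase_add _ _ (Finset.mem_univ Q),
        ← add_assoc, add_sub_cancel_right]
      refine add_mem (Ideal.sum_mem _ fun i hi => ?_) (Ideal.sum_mem _ fun i hi => ?_)
      · exact Ideal.sum_mem _ fun j _ => Ideal.mul_mem_right _ _ (he2 _ _ (Finset.ne_of_mem_erase hi).symm)
      · exact Ideal.mul_mem_left _ _ (Ideal.mul_mem_right _ _ (he2 _ _ (Finset.ne_of_mem_erase hi).symm))
    have h2 := sub_mem hm h1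
    rw [sub_sub_cancel] at h2
    rcases Q.2.1.mem_or_mem h2 with h3 | h3
    · exact he1 Q h3
    · rcases Q.2.1.mem_or_mem h3 with h3 | h3
      · exact he1 Q h3
      · exact hmψ Q h3
  obtain ⟨r, hr, c, hc⟩ : ∃ r ∉ q.asIdeal, ∃ c, c * ψ₀ g₀ = algebraMap A B r := by
    by_contra hcon
    push Not at hcon
    have hle : (Ideal.span {ψ₀ g₀}).comap (algebraMap A B) ≤ q.asIdeal := fun r hr => by
      by_contra hrq
      obtain ⟨c, hc⟩ := Ideal.mem_span_singleton'.1 (Ideal.mem_comap.1 hr)
      exact hcon r hrq c hc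
    obtain ⟨Q, hQ, hQp, hQc⟩ := Ideal.exists_ideal_over_prime_of_isIntegral q.asIdeal _ hle
    exact hg ⟨Q, hQp, ⟨hQc.symm⟩⟩ (hQ (Ideal.mem_span_singleton_self _))
  refine ⟨g₀, c • ψ₀, r, hr, by rw [LinearMap.smul_apply, smul_eq_mul, hc], fun x => ?_⟩
  rw [LinearMap.smul_apply, smul_eq_mul, mul_smul, smul_apply_comm hM ψ₀ x g₀, smul_smul, hc]

end Algebra

end Groth.Agent.DetInv.Frame
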