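import Groth.Agent.DetInv.Frame
import Mathlib.LinearAlgebra.ExteriorPower.Basis
import Mathlib.LinearAlgebra.Matrix.Determinant.Basic
import Mathlib.LinearAlgebra.Matrix.ToLin
import Mathlib.RingTheory.Norm.Transitivity
import Mathlib.RingTheory.Localization.Away.Basic
import Mathlib.RingTheory.Finiteness.Projective
import Mathlib.RingTheory.OrzechProperty

/-!
# Frames over semilocal fibres, top exterior powers, determinants of block matrices
-/

universe u

open TensorProduct

namespace Groth.Agent.DetInv.Top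

open Groth.Agent.DetInv.Frame

section Iso

variable {A B : Type u} [CommRing A] [CommRing B] [Algebra A B]

/-- An ideal of `B` outside all primes over `q` contains a scalar outside `q`. -/
theorem exists_scalar_mem [Module.Finite A B] (q : PrimeSpectrum A) (I : Ideal B)
    (hI : ∀ Q ∈ q.asIdeal.primesOver B, ¬ I ≤ Q) : ∃ r ∉ q.asIdeal, algebraMap A B r ∈ I := by
  by_contra hcon
  push Not at hcon
  obtain ⟨Q, hQ, hQp, hQc⟩ := Ideal.exists_ideal_over_prime_of_isIntegral q.asIdeal I
    (fun r hr => by_contra fun hrq => hcon r hrq hr)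
  exact hI Q ⟨hQp, ⟨hQc.symm⟩⟩ hQ

/-- Over each prime of `A`, a projective `B`-module of constant rank `k` is `B^k` up to an outside
scalar. -/
theorem exists_iso [Module.Finite A B] {M : Type u} [AddCommGroup M] [Module B M] [Module.Finite B M]
    [Module.Projective B M] (k : ℕ)
    (h : ∀ Q : PrimeSpectrum B, Module.finrank (Localization.AtPrime Q.asIdeal)
      (LocalizedModule Q.asIdeal.primeCompl M) = k) (q : PrimeSpectrum A) :
    ∃ (Φ : (Fin k → B) →ₗ[B] M) (Ψ : M →ₗ[B] (Fin k → B)) (r : A), r ∉ q.asIdeal ∧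
      (∀ x, Φ (Ψ x) = algebraMap A B r • x) ∧ (∀ w, Ψ (Φ w) = algebraMap A B r • w) := by
  classical
  have hfin : (q.asIdeal.primesOver B).Finite := Algebra.QuasiFinite.finite_primesOver q.asIdeal
  have : Fintype (q.asIdeal.primesOver B) := hfin.fintype
  choose φ hφ using fun Q : q.asIdeal.primesOver B => exists_frame k ⟨Q.1, Q.2.1⟩ (h ⟨Q.1, Q.2.1⟩)
  have hsep : ∀ Q Q' : q.asIdeal.primesOver B, Q' ≠ Q → ∃ e ∈ Q'.1, e ∉ Q.1 := by
    intro Q Q' hne
    have : Q.1.IsPrime := Q.2.1
    have : Q'.1.IsPrime := Q'.2.1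
    refine Set.not_subset.1 fun hle => ?_
    rcases (le_iff_lt_or_eq.1 (show Q'.1 ≤ Q.1 from hle)) with hlt | heq
    · have := Ideal.IsIntegral.comap_lt_comap (R := A) hlt
      rw [← Ideal.under_def, ← Ideal.under_def, ← Q.2.2.over, ← Q'.2.2.over] at this
      exact lt_irrefl _ this
    · exact hne (Subtype.ext heq)
  choose sep hsep1 hsep2 using hsep
  let e : q.asIdeal.primesOver B → B := fun Q =>
    ∏ Q' : q.asIdeal.primesOver B, if hne : Q' ≠ Q then sep Q Q' hne else 1
  have he1 : ∀ Q, e Q ∉ Q.1 := fun Q hm => by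
    obtain ⟨Q', -, hQ'⟩ := Q.2.1.prod_mem_iff.1 hm
    split_ifs at hQ' with hne
    · exact hsep2 Q Q' hne hQ'
    · exact Q.2.1.one_notMem hQ'
  have he2 : ∀ Q Q', Q' ≠ Q → e Q ∈ Q'.1 := fun Q Q' hne =>
    Ideal.mem_of_dvd _ (Finset.dvd_prod_of_mem _ (Finset.mem_univ Q'))
      (by rw [dif_pos hne]; exact hsep1 Q Q' hne)
  let Φ : (Fin k → B) →ₗ[B] M := ∑ Q, e Q • φ Q
  -- `Φ` is surjective at each prime over `q`
  have hsurjQ : ∀ (Q : q.asIdeal.primesOver B) (x : M), ∃ s ∉ Q.1, s • x ∈ LinearMap.range Φ := by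
    intro Q x
    choose r hr hc using fun p : q.asIdeal.primesOver B × Fin k => hφ Q (φ p.1 (Pi.single p.2 1))
    choose c hc using hc
    let R := ∏ p, r p
    have hR : R ∉ Q.1 := fun hm => by
      obtain ⟨p, -, hp⟩ := Q.2.1.prod_mem_iff.1 hm
      exact hr p hp
    let c' := fun p : q.asIdeal.primesOver B × Fin k => (∏ p' ∈ Finset.univ.erase p, r p') • c p
    have hc' : ∀ p, φ Q (c' p) = R • φ p.1 (Pi.single p.2 1) := fun p => by
      simp only [c', map_smul, hc, smul_smul, R]
      rw [Finset.prod_erase_mul _ _ (Finset.mem_univ p)]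
    -- the matrix of `R • Φ` in the frame `φ Q`
    let C : Matrix (Fin k) (Fin k) B := Matrix.of fun b a =>
      (∑ Q' ∈ Finset.univ.erase Q, e Q' * c' (Q', a) b) + if b = a then R * e Q else 0
    have hC : ∀ w, φ Q (C.mulVec w) = Φ (R • w) := by
      suffices h0 : φ Q ∘ₗ C.mulVecLin = R • Φ from fun w => by
        rw [map_smul, ← LinearMap.smul_apply, ← h0]; rfl
      refine LinearMap.pi_ext' fun a => LinearMap.ext_ring ?_
      show φ Q (C.mulVec (Pi.single a 1)) = R • Φ (Pi.single a 1)
      have hcol : C.mulVec (Pi.single a 1)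
          = (∑ Q' ∈ Finset.univ.erase Q, e Q' • c' (Q', a)) + (R * e Q) • Pi.single a 1 := by
        rw [Matrix.mulVec_single_one]
        ext b
        simp [C, Matrix.col_apply, Pi.single_apply]
      rw [hcol, map_add, map_sum, map_smul]
      simp only [map_smul, hc', Φ, LinearMap.sum_apply, LinearMap.smul_apply, Finset.smul_sum,
        smul_smul]
      rw [← Finset.sum_erase_add _ _ (Finset.mem_univ Q)]
      exact congrArg (· + _) (Finset.sum_congr rfl fun Q' _ => by rw [mul_comm])
    have hdet : C.det ∉ Q.1 := by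
      intro hm
      let π := Ideal.Quotient.mk Q.1
      have hmap : C.map π = Matrix.diagonal fun _ => π (R * e Q) := by
        ext b a
        simp only [C, Matrix.map_apply, Matrix.of_apply, map_add, map_sum, map_mul, Matrix.diagonal_apply,
          apply_ite π, map_zero]
        rw [Finset.sum_eq_zero fun Q' hQ' => ?_, zero_add]
        rw [Ideal.Quotient.eq_zero_iff_mem.2 (he2 Q' Q (Finset.ne_of_mem_erase hQ').symm), zero_mul]
      have h1 : π C.det = π (R * e Q) ^ k := by
        rw [RingHom.map_det, RingHom.mapMatrix_apply, hmap, Matrix.det_diagonal, Finset.prod_const,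
          Finset.card_univ, Fintype.card_fin]
      rw [Ideal.Quotient.eq_zero_iff_mem.2 hm, ← map_pow, eq_comm, Ideal.Quotient.eq_zero_iff_mem] at h1
      rcases Q.2.1.mem_or_mem (Q.2.1.mem_of_pow_mem k h1) with h2 | h2
      · exact hR h2
      · exact he1 Q h2
    obtain ⟨s, hs, w, hw⟩ := hφ Q x
    refine ⟨C.det * s, Q.2.1.mul_notMem hdet hs, R • C.adjugate.mulVec w, ?_⟩
    rw [← hC, Matrix.mulVec_mulVec, Matrix.mul_adjugate, Matrix.smul_mulVec, Matrix.one_mulVec,
      map_smul, hw, smul_smul]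
  -- `Φ` is injective at each prime over `q`
  have hinjQ : ∀ (Q : q.asIdeal.primesOver B) (w : Fin k → B), Φ w = 0 → ∃ s ∉ Q.1, s • w = 0 := by
    intro Q w hw
    let P : PrimeSpectrum B := ⟨Q.1, Q.2.1⟩
    let S := P.asIdeal.primeCompl
    let BQ := Localization.AtPrime P.asIdeal
    have : Module.Finite BQ (LocalizedModule S M) :=
      Module.Finite.of_isLocalizedModule S (LocalizedModule.mkLinearMap S M)
    have : Module.Free BQ (LocalizedModule S M) := Module.free_of_flat_of_isLocalRing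
    let b := (Module.Free.chooseBasis BQ (LocalizedModule S M)).reindex
      (Fintype.equivFinOfCardEq (by rw [← Module.finrank_eq_card_chooseBasisIndex, h P]))
    let Φ' : (Fin k → BQ) →ₗ[BQ] LocalizedModule S M :=
      Fintype.linearCombination BQ fun a => LocalizedModule.mkLinearMap S M (Φ (Pi.single a 1))
    have hΦ' : ∀ v : Fin k → B, Φ' (fun a => algebraMap B BQ (v a))
        = LocalizedModule.mkLinearMap S M (Φ v) := fun v => by
      conv_rhs => rw [pi_eq_sum_univ' v]
      simp only [Φ', Fintype.linearCombination_apply, map_sum, map_smul, algebraMap_smul]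
    have hsurj : Function.Surjective (b.equivFun.toLinearMap ∘ₗ Φ') := by
      refine b.equivFun.surjective.comp fun y => ?_
      induction y using LocalizedModule.induction_on with
      | h m s =>
        obtain ⟨t, ht, v, hv⟩ := hsurjQ Q m
        let t' : S := ⟨t, ht⟩
        refine ⟨(Localization.mk (1 : B) (t' * s) : BQ) • fun a => algebraMap B BQ (v a), ?_⟩
        rw [map_smul, hΦ', hv, LocalizedModule.mkLinearMap_apply]
        refine (LocalizedModule.mk_smul_mk (1 : B) (t • m) (t' * s) 1).trans ?_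
        rw [mul_one, one_smul]
        exact LocalizedModule.mk_cancel_common_left t' s m
    have hinj := OrzechProperty.injective_of_surjective_endomorphism _ hsurj
    have h0 : (fun a => algebraMap B BQ (w a)) = (0 : Fin k → BQ) := hinj (by
      rw [LinearMap.comp_apply, hΦ', hw, map_zero, map_zero, map_zero])
    choose s hs using fun a => (IsLocalization.map_eq_zero_iff S BQ (w a)).1 (congrFun h0 a)
    refine ⟨∏ a, (s a : B), fun hm => ?_, funext fun a => ?_⟩
    · obtain ⟨a, -, ha⟩ := Q.2.1.prod_mem_iff.1 hm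
      exact (s a).2 ha
    · show (∏ a, (s a : B)) * w a = 0
      rw [← Finset.prod_erase_mul _ _ (Finset.mem_univ a), mul_assoc, hs a, mul_zero]
  have hsurj : ∀ x : M, ∃ r ∉ q.asIdeal, algebraMap A B r • x ∈ LinearMap.range Φ := fun x => by
    refine exists_scalar_mem q ((LinearMap.range Φ).comap (LinearMap.toSpanSingleton B M x)) fun Q hQ hle => ?_
    obtain ⟨s, hs, hsx⟩ := hsurjQ ⟨Q, hQ⟩ x
    exact hs (hle hsx)
  have hinj : ∀ w, Φ w = 0 → ∃ r ∉ q.asIdeal, algebraMap A B r • w = 0 := fun w hw => by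
    obtain ⟨r, hr, hrw⟩ := exists_scalar_mem q (LinearMap.ker (LinearMap.toSpanSingleton B (Fin k → B) w))
      fun Q hQ hle => by
        obtain ⟨s, hs, hsw⟩ := hinjQ ⟨Q, hQ⟩ w hw
        exact hs (hle hsw)
    exact ⟨r, hr, hrw⟩
  obtain ⟨T, hT⟩ := Module.Finite.fg_top (R := B) (M := M)
  choose r hr hrx using hsurj
  let R₁ := ∏ x ∈ T, r x
  have hR₁ : R₁ ∉ q.asIdeal := fun hm => by
    obtain ⟨x, -, hx⟩ := q.2.prod_mem_iff.1 hm
    exact hr x hx
  have hR₁x : ∀ x : M, algebraMap A B R₁ • x ∈ LinearMap.range Φ := fun x => by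
    have hle : Submodule.span B (T : Set M) ≤ (LinearMap.range Φ).comap (algebraMap A B R₁ • LinearMap.id) :=
      Submodule.span_le.2 fun y hy => by
        simp only [SetLike.mem_coe, Submodule.mem_comap, LinearMap.smul_apply, LinearMap.id_apply, R₁]
        rw [← Finset.prod_erase_mul _ _ (Finset.mem_coe.1 hy), map_mul, mul_smul]
        exact Submodule.smul_mem _ _ (hrx y)
    exact hle (hT ▸ Submodule.mem_top)
  obtain ⟨Ψ, hΨ⟩ := Module.projective_lifting_property Φ.rangeRestrict
    ((algebraMap A B R₁ • (LinearMap.id : M →ₗ[B] M)).codRestrict (LinearMap.range Φ) hR₁x)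
    Φ.surjective_rangeRestrict
  have hΦΨ : ∀ x, Φ (Ψ x) = algebraMap A B R₁ • x := fun x =>
    congrArg Subtype.val (LinearMap.congr_fun hΨ x)
  choose t ht htw using fun a : Fin k => hinj
    (Ψ (Φ (Pi.single a 1)) - algebraMap A B R₁ • (Pi.single a 1 : Fin k → B))
    (by rw [map_sub, map_smul, hΦΨ, sub_self])
  let R₂ := ∏ a, t a
  have hR₂ : R₂ ∉ q.asIdeal := fun hm => by
    obtain ⟨a, -, ha⟩ := q.2.prod_mem_iff.1 hm
    exact ht a ha
  refine ⟨Φ, algebraMap A B R₂ • Ψ, R₂ * R₁, q.2.mul_notMem hR₂ hR₁, fun x => ?_, fun w => ?_⟩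
  · rw [LinearMap.smul_apply, map_smul, hΦΨ, smul_smul, map_mul]
  · suffices h0 : (algebraMap A B R₂ • Ψ) ∘ₗ Φ = algebraMap A B (R₂ * R₁) • LinearMap.id from
      LinearMap.congr_fun h0 w
    refine LinearMap.pi_ext' fun a => LinearMap.ext_ring ?_
    show algebraMap A B R₂ • Ψ (Φ (Pi.single a 1)) = algebraMap A B (R₂ * R₁) • Pi.single a 1
    rw [map_mul, mul_smul, ← sub_eq_zero, ← smul_sub]
    simp only [R₂]
    rw [← Finset.prod_erase_mul _ _ (Finset.mem_univ a), map_mul, mul_smul, htw a, smul_zero]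

end Iso

section Top

variable {R M : Type u} [CommRing R] [AddCommGroup M] [Module R M]

/-- The determinant functional attached to coordinates. -/
noncomputable def topForm {m : ℕ} (C : M →ₗ[R] (Fin m → R)) : (⋀[R]^m M) →ₗ[R] R :=
  exteriorPower.alternatingMapLinearEquiv (Matrix.detRowAlternating.compLinearMap C)

theorem topForm_ιMulti {m : ℕ} (C : M →ₗ[R] (Fin m → R)) (v : Fin m → M) :
    topForm C (exteriorPower.ιMulti R m v) = (Matrix.of fun i => C (v i)).det := by
  rw [topForm, exteriorPower.alternatingMapLinearEquiv_apply_ιMulti]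
  rfl

theorem ιMulti_eq_det_smul {m : ℕ} (w : Fin m → Fin m → R) :
    exteriorPower.ιMulti R m w
      = (Matrix.of w).det • exteriorPower.ιMulti R m fun i => (Pi.single i 1 : Fin m → R) := by
  rcases subsingleton_or_nontrivial R with h | h
  · have := Module.subsingleton R (⋀[R]^m (Fin m → R))
    exact Subsingleton.elim _ _
  obtain ⟨z, -, hz⟩ := (finrank_eq_one_iff' (K := R) (V := ⋀[R]^m (Fin m → R))).1
    (by rw [exteriorPower.finrank_eq, Module.finrank_fin_fun, Nat.choose_self])
  obtain ⟨c, hc⟩ := hz (exteriorPower.ιMulti R m w)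
  obtain ⟨c₀, hc₀⟩ := hz (exteriorPower.ιMulti R m fun i => (Pi.single i 1 : Fin m → R))
  have h1 := congrArg (topForm (LinearMap.id : (Fin m → R) →ₗ[R] _)) hc
  have h2 := congrArg (topForm (LinearMap.id : (Fin m → R) →ₗ[R] _)) hc₀
  rw [map_smul, topForm_ιMulti, smul_eq_mul] at h1 h2
  have h3 : (Matrix.of fun i : Fin m => (Pi.single i 1 : Fin m → R)).det = 1 := by
    rw [show (Matrix.of fun i : Fin m => (Pi.single i 1 : Fin m → R)) = 1 from by
      ext i j; simp [Pi.single_apply, Matrix.one_apply, eq_comm], Matrix.det_one]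
  simp only [LinearMap.id_apply] at h1 h2
  rw [h3] at h2
  rw [← hc, ← hc₀, ← h1, smul_smul]
  congr 1
  linear_combination -c * h2

/-- A module which is `R^m` up to the scalar `c` has top power `R` up to `c ^ m`. -/
theorem smul_eq_topForm_smul {m : ℕ} (P : (Fin m → R) →ₗ[R] M) (C : M →ₗ[R] (Fin m → R)) (c : R)
    (hPC : ∀ x, P (C x) = c • x) (ξ : ⋀[R]^m M) :
    c ^ m • ξ = topForm C ξ • exteriorPower.ιMulti R m fun i => P (Pi.single i 1) := by
  suffices h : c ^ m • LinearMap.id
      = (LinearMap.toSpanSingleton R _ (exteriorPower.ιMulti R m fun i => P (Pi.single i 1))).comp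
        (topForm C) from LinearMap.congr_fun h ξ
  refine exteriorPower.linearMap_ext (AlternatingMap.ext fun v => ?_)
  simp only [LinearMap.compAlternatingMap_apply, LinearMap.smul_apply, LinearMap.id_apply,
    LinearMap.comp_apply, LinearMap.toSpanSingleton_apply, topForm_ιMulti]
  have h := congrArg (exteriorPower.map m P) (ιMulti_eq_det_smul fun i => C (v i))
  rw [map_smul, exteriorPower.map_apply_ιMulti, exteriorPower.map_apply_ιMulti] at h
  rw [show (⇑P ∘ fun i => C (v i)) = fun i => c • v i from funext fun i => hPC _,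
    AlternatingMap.map_smul_univ, Finset.prod_const, Finset.card_univ, Fintype.card_fin] at h
  exact h

theorem topForm_base {m : ℕ} (P : (Fin m → R) →ₗ[R] M) (C : M →ₗ[R] (Fin m → R)) (c : R)
    (hCP : ∀ w, C (P w) = c • w) :
    topForm C (exteriorPower.ιMulti R m fun i => P (Pi.single i 1)) = c ^ m := by
  rw [topForm_ιMulti, show (Matrix.of fun i => C (P (Pi.single i 1))) = c • (1 : Matrix (Fin m) (Fin m) R) from by
    ext i j; simp [hCP, Pi.single_apply, Matrix.one_apply, eq_comm], Matrix.det_smul, Matrix.det_one,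
    mul_one, Fintype.card_fin]

end Top

section Det

variable {A B : Type u} [CommRing A] [CommRing B] [Algebra A B] {n k : ℕ}

/-- The matrix of multiplication by `u` in approximate coordinates. -/
noncomputable def mulMat (ε : (Fin n → A) →ₗ[A] B) (δ : B →ₗ[A] (Fin n → A)) (u : B) :
    Matrix (Fin n) (Fin n) A :=
  LinearMap.toMatrix' (δ ∘ₗ LinearMap.mulLeft A u ∘ₗ ε)

theorem mulMat_mulVec (ε : (Fin n → A) →ₗ[A] B) (δ : B →ₗ[A] (Fin n → A)) (r : A)
    (hεδ : ∀ x, ε (δ x) = r • x) (u v : B) : (mulMat ε δ u).mulVec (δ v) = r • δ (u * v) := by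
  rw [mulMat, LinearMap.toMatrix'_mulVec, LinearMap.comp_apply, LinearMap.comp_apply,
    LinearMap.mulLeft_apply, hεδ, mul_smul_comm, map_smul]

theorem det_comp_eq (ε : (Fin n → A) →ₗ[A] B) (δ : B →ₗ[A] (Fin n → A)) (r : A)
    (hεδ : ∀ x, ε (δ x) = r • x) (hδε : ∀ w, δ (ε w) = r • w) (U : Matrix (Fin k) (Fin k) B) :
    ∃ N : ℕ, r ^ N * (r ^ (n * k) * (mulMat ε δ U.det).det)
      = r ^ N * (r ^ n * ((U.map (mulMat ε δ)).comp (Fin k) (Fin k) (Fin n) (Fin n) A).det) := by
  let A' := Localization.Away r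
  let ι := algebraMap A A'
  let ρ : A' := IsLocalization.Away.invSelf r
  have hρ : ι r * ρ = 1 := IsLocalization.Away.mul_invSelf r
  have hmul : ∀ u v, mulMat ε δ u * mulMat ε δ v = r • mulMat ε δ (u * v) := fun u v => by
    rw [mulMat, mulMat, mulMat, ← LinearMap.toMatrix'_comp, ← map_smul]
    congr 1
    refine LinearMap.ext fun w => ?_
    simp [hεδ]
  have hone : mulMat ε δ 1 = r • 1 := by
    rw [mulMat, ← LinearMap.toMatrix'_id, ← map_smul]
    congr 1
    exact LinearMap.ext fun w => by simp [hδε]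
  have hadd : ∀ u v, mulMat ε δ (u + v) = mulMat ε δ u + mulMat ε δ v := fun u v => by
    rw [mulMat, mulMat, mulMat, ← map_add]
    congr 1
    exact LinearMap.ext fun w => by simp [add_mul]
  let f : B →+* Matrix (Fin n) (Fin n) A' :=
    { toFun := fun u => ρ • (mulMat ε δ u).map ι
      map_one' := by
        rw [hone]; ext i j
        rcases eq_or_ne i j with rfl | hij
        · simp [← hρ, mul_comm]
        · simp [hij]
      map_mul' := fun u v => by
        rw [smul_mul_smul_comm, ← Matrix.map_mul, hmul]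
        ext i j
        simp only [Matrix.smul_apply, Matrix.map_apply, smul_eq_mul, map_mul]
        linear_combination -(ρ * ι (mulMat ε δ (u * v) i j)) * hρ
      map_zero' := by
        ext i j; simp [mulMat]
      map_add' := fun u v => by rw [hadd, Matrix.map_add _ (map_add ι), smul_add] }
  have h := Matrix.det_det (M := U) f
  have hblock : (U.map f).comp (Fin k) (Fin k) (Fin n) (Fin n) A'
      = ρ • ((U.map (mulMat ε δ)).comp (Fin k) (Fin k) (Fin n) (Fin n) A).map ι := by
    ext ⟨a, i⟩ ⟨b, j⟩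
    rfl
  rw [hblock, Matrix.det_smul, ← RingHom.mapMatrix_apply, ← RingHom.map_det] at h
  have hfd : (f U.det).det = ρ ^ n * ι (mulMat ε δ U.det).det := by
    show (ρ • (mulMat ε δ U.det).map ι).det = _
    rw [Matrix.det_smul, ← RingHom.mapMatrix_apply, ← RingHom.map_det, Fintype.card_fin]
  rw [hfd, Fintype.card_prod, Fintype.card_fin, Fintype.card_fin, mul_comm k n] at h
  have hn : ι r ^ n * ρ ^ n = 1 := by rw [← mul_pow, hρ, one_pow]
  have hnk : ι r ^ (n * k) * ρ ^ (n * k) = 1 := by rw [← mul_pow, hρ, one_pow]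
  have key : ι (r ^ (n * k) * (mulMat ε δ U.det).det)
      = ι (r ^ n * ((U.map (mulMat ε δ)).comp (Fin k) (Fin k) (Fin n) (Fin n) A).det) := by
    rw [map_mul, map_mul, map_pow, map_pow]
    linear_combination (ι r ^ n * ι r ^ (n * k)) * h
      - (ι r ^ (n * k) * ι (mulMat ε δ U.det).det) * hn
      + (ι r ^ n * ι ((U.map (mulMat ε δ)).comp (Fin k) (Fin k) (Fin n) (Fin n) A).det) * hnk
  obtain ⟨⟨c, N, rfl⟩, hc⟩ := (IsLocalization.eq_iff_exists (Submonoid.powers r) A').1 key
  exact ⟨N, hc⟩

end Det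

end Groth.Agent.DetInv.Top
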